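import Groth.Agent.ChernExistLib.Raw
import Groth.Agent.CycPushLib.Closed

/-! Existence of operational Chern classes. -/

set_option autoImplicit false
set_option linter.style.haveILetI false
set_option linter.unusedSectionVars false
set_option maxHeartbeats 1000000

universe u

open AlgebraicGeometry CategoryTheory CategoryTheory.Limits Opposite
open KFlatLib (pb)

noncomputable section

namespace Groth.Agent.ChernExistLib

variable {X : Scheme.{u}} {δX : X → ℤ} (hX : Cyc.IsSetup X δX) {E : X.Modules} {n : ℕ}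
  (hE : FlatMod.IsFinLocFreeOfRank (n + 1) E) {P0 : Scheme.{u}} {π0 : P0 ⟶ X} {O : P0.Modules}
  {q0 : pb π0 E ⟶ O} (h0 : KRR.IsProjBundle π0 E O q0)

include hX hE h0

/-- The base change of the bundle to a test scheme, with a dimension function. -/
theorem exists_data (s : Bivar.OSq X δX) :
    ∃ δs : ↑(pullback π0 s.g) → ℤ, Data (pullback.snd π0 s.g) (pb (pullback.fst π0 s.g) O) n s.δ δs := by
  haveI := s.lft
  haveI : IsProper π0 := ProjBunLib.isProper h0 hE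
  have hE' := SeesawLib.isFinLocFreeOfRank_pullback s.g hE
  have hq := CycPBLib.isProjBundle_bc q0 h0 (IsPullback.of_hasPullback π0 s.g)
  obtain ⟨δs, hδ⟩ := CycAffLib.exists_deltaCompat (pullback.snd π0 s.g) s.δ
  have hY := CycBivLib.isSetup_of_lft s.g hX s.compat
  exact ⟨δs, ⟨⟨_, _, hE', hq⟩, hY, CycBivLib.isSetup_of_lft _ hY hδ, hδ⟩⟩

/-- The dimension function on the base change of the bundle. -/
def dP (s : Bivar.OSq X δX) : ↑(pullback π0 s.g) → ℤ := (exists_data hX hE h0 s).choose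

theorem data (s : Bivar.OSq X δX) :
    Data (pullback.snd π0 s.g) (pb (pullback.fst π0 s.g) O) n s.δ (dP hX hE h0 s) :=
  (exists_data hX hE h0 s).choose_spec

/-- A tuple representing the Chern caps of a cycle on a test scheme. -/
abbrev IsCap (s : Bivar.OSq X δX) (k : ℤ) (α : AlgebraicCycle s.Y ℤ) (γ : Fin (n + 2) → AlgebraicCycle s.Y ℤ) :
    Prop :=
  Cyc.IsChernCap (pullback.snd π0 s.g) s.δ (dP hX hE h0 s) (pb (pullback.fst π0 s.g) O) (n + 1) k α γ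

/-- Chosen Chern caps. -/
def cap (s : Bivar.OSq X δX) {k : ℤ} (a : ↥(ChowOps.zk s.Y s.δ k)) : Fin (n + 2) → AlgebraicCycle s.Y ℤ :=
  (exists_cap (data hX hE h0 s) (α := a.1) a.2).choose

theorem cap_spec (s : Bivar.OSq X δX) {k : ℤ} (a : ↥(ChowOps.zk s.Y s.δ k)) :
    IsCap hX hE h0 s k a.1 (cap hX hE h0 s a) :=
  (exists_cap (data hX hE h0 s) (α := a.1) a.2).choose_spec

theorem cl_cap_eq (s : Bivar.OSq X δX) {k : ℤ} {a : ↥(ChowOps.zk s.Y s.δ k)} {α : AlgebraicCycle s.Y ℤ}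
    {γ : Fin (n + 2) → AlgebraicCycle s.Y ℤ} (h : Cyc.RatEquiv s.δ k a.1 α) (hγ : IsCap hX hE h0 s k α γ)
    (j : Fin (n + 2)) :
    ChowOps.cl (cap hX hE h0 s a j) ((cap_spec hX hE h0 s a).2.1 j) = ChowOps.cl (γ j) (hγ.2.1 j) :=
  CycBivLib.cl_eq_cl _ _ (cap_unique (data hX hE h0 s) h (cap_spec hX hE h0 s a) hγ j)

/-- The `j`-th Chern cap on Chow groups. -/
def capHom (s : Bivar.OSq X δX) (k : ℤ) (j : Fin (n + 2)) :
    ChowOps.CH s.Y s.δ k →+ ChowOps.CH s.Y s.δ (k - ((j : ℕ) : ℤ)) :=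
  CycBivLib.descend
    { toFun := fun a => ChowOps.cl (cap hX hE h0 s a j) ((cap_spec hX hE h0 s a).2.1 j)
      map_zero' := (cl_cap_eq hX hE h0 s (CycCommLib.ratEquiv_refl _) (cap_zero (data hX hE h0 s) k) j).trans
        Bivar.cl_zero
      map_add' := fun a b =>
        (cl_cap_eq hX hE h0 s (CycCommLib.ratEquiv_refl _)
          (cap_add (data hX hE h0 s) (cap_spec hX hE h0 s a) (cap_spec hX hE h0 s b)) j).trans
          (Bivar.cl_add _ _ _ _) }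
    fun a ha => (cl_cap_eq hX hE h0 s (show Cyc.RatEquiv s.δ k a.1 0 by
      show Cyc.RatEquivZero _ _ _
      rwa [sub_zero]) (cap_zero (data hX hE h0 s) k) j).trans Bivar.cl_zero

theorem capHom_cl (s : Bivar.OSq X δX) {k : ℤ} (j : Fin (n + 2)) (α : AlgebraicCycle s.Y ℤ)
    (hα : α ∈ Cyc.Zk s.Y s.δ k) :
    capHom hX hE h0 s k j (ChowOps.cl α hα) =
      ChowOps.cl (cap hX hE h0 s (k := k) ⟨α, hα⟩ j) ((cap_spec hX hE h0 s _).2.1 j) := rfl

/-- The map of bundles over a map of test schemes. -/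
def bcMap {s t : Bivar.OSq X δX} (h : t.Y ⟶ s.Y) (w : h ≫ s.g = t.g) : pullback π0 t.g ⟶ pullback π0 s.g :=
  pullback.lift (pullback.fst π0 t.g) (pullback.snd π0 t.g ≫ h) (by rw [pullback.condition, Category.assoc, w])

theorem bcMap_sq {s t : Bivar.OSq X δX} (h : t.Y ⟶ s.Y) (w : h ≫ s.g = t.g) :
    IsPullback (bcMap h w) (pullback.snd π0 t.g) (pullback.snd π0 s.g) h := by
  refine IsPullback.of_right ?_ (pullback.lift_snd _ _ _) (IsPullback.of_hasPullback π0 s.g)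
  rw [bcMap, pullback.lift_fst, w]
  exact IsPullback.of_hasPullback π0 t.g

theorem cap_bc {s t : Bivar.OSq X δX} (h : t.Y ⟶ s.Y) (w : h ≫ s.g = t.g) {k : ℤ}
    {α : AlgebraicCycle t.Y ℤ} {γ : Fin (n + 2) → AlgebraicCycle t.Y ℤ} (hγ : IsCap hX hE h0 t k α γ) :
    Cyc.IsChernCap (pullback.snd π0 t.g) t.δ (dP hX hE h0 t)
      (pb (bcMap h w) (pb (pullback.fst π0 s.g) O)) (n + 1) k α γ :=
  cap_iso (data hX hE h0 t).hP
    (AmpleDevLib.isInvertible_pb _ (AmpleDevLib.isInvertible_pb _ ((CohCmpLib.invertible_iff_rank_one _).2 h0.invertible)))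
    ((Scheme.Modules.pullbackComp _ _).app O ≪≫
      (Scheme.Modules.pullbackCongr (pullback.lift_fst _ _ _)).app O) hγ

theorem push_ok (s t : Bivar.OSq X δX) (h : t.Y ⟶ s.Y) [IsProper h] (w : h ≫ s.g = t.g) (k : ℤ) (j : Fin (n + 2)) :
    Bivar.PushOK t.δ t.δ s.δ s.δ h h (capHom hX hE h0 t k j) (capHom hX hE h0 s k j) := by
  intro α hα
  refine ⟨_, _, capHom_cl hX hE h0 t j α hα, ?_⟩
  rw [capHom_cl hX hE h0 s j _ _]
  haveI := (data hX hE h0 s).proper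
  have ds := data hX hE h0 s
  obtain ⟨E', q, hE', hq⟩ := ds.bundle
  refine CycBivLib.cl_eq_cl _ _ ?_
  exact CycCommLib.ratEquiv_symm ds.hX (Groth.Agent.S12659.result t.Y s.Y t.δ s.δ (data hX hE h0 t).hX ds.hX h
    (CycBivLib.deltaCompat_cancel h s.g w s.compat t.compat) (n + 1) E' hE' _ _ _ q hq _ ds.hP ds.hδ _ _ _
    (bcMap_sq hX hE h0 h w) _ (data hX hE h0 t).hP (data hX hE h0 t).hδ k α hα _
    (cap_bc hX hE h0 h w (cap_spec hX hE h0 t ⟨α, hα⟩)) _ (cap_spec hX hE h0 s _) j)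

theorem pull_ok (s t : Bivar.OSq X δX) (h : t.Y ⟶ s.Y) [Flat h] (r : ℕ) (hr : Cyc.HasRelDim h r)
    (w : h ≫ s.g = t.g) (k : ℤ) (j : Fin (n + 2)) :
    Bivar.PullOK s.δ s.δ t.δ t.δ h h (r : ℤ) (capHom hX hE h0 s k j) (capHom hX hE h0 t (k + r) j) := by
  intro α hα
  refine ⟨_, _, capHom_cl hX hE h0 s j α hα, fun α₁ hα₁e hα₁ => ?_⟩
  haveI := t.lft
  haveI : LocallyOfFiniteType h := by
    haveI : LocallyOfFiniteType (h ≫ s.g) := by rw [w]; infer_instance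
    exact locallyOfFiniteType_of_comp h s.g
  have hδh := CycBivLib.deltaCompat_cancel h s.g w s.compat t.compat
  have hgen : ∀ x, CycLimLib.IsGen h x → t.δ x = s.δ (h x) + (r : ℤ) := fun x hx =>
    CycLimLib.delta_eq_of_gen h hδh hr hx
  have ds := data hX hE h0 s
  have dt := data hX hE h0 t
  haveI := ds.proper
  obtain ⟨E', q, hE', hq⟩ := ds.bundle
  let β : Fin (n + 2) → AlgebraicCycle t.Y ℤ := fun i =>
    CycC1Lib.pullCyc h dt.hX hgen (cap hX hE h0 s (k := k) ⟨α, hα⟩ i)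
  have hmem : β j ∈ Cyc.Zk t.Y t.δ (k + r - ((j : ℕ) : ℤ)) := by
    have := CycC1Lib.pullCyc_mem_Zk h dt.hX hgen ((cap_spec hX hE h0 s ⟨α, hα⟩).2.1 j)
    rwa [show k - ((j : ℕ) : ℤ) + r = k + r - ((j : ℕ) : ℤ) by ring] at this
  refine ⟨β j, hmem, rfl, ?_⟩
  rw [capHom_cl hX hE h0 t j _ _]
  refine CycBivLib.cl_eq_cl _ _ ?_
  exact CycCommLib.ratEquiv_symm dt.hX (Groth.Agent.S12660.result t.Y s.Y t.δ s.δ dt.hX ds.hX h r hr hδh (n + 1)
    E' hE' _ _ _ q hq _ ds.hP ds.hδ _ _ _ (bcMap_sq hX hE h0 h w) _ dt.hP dt.hδ k α hα α₁ hα₁e _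
    (cap_spec hX hE h0 s ⟨α, hα⟩) _ (cap_bc hX hE h0 h w (cap_spec hX hE h0 t ⟨α₁, hα₁⟩)) β (fun _ => rfl) j)

theorem gysin_ok (s t : Bivar.OSq X δX) (i : t.Y ⟶ s.Y) [IsClosedImmersion i] (w : i ≫ s.g = t.g)
    (L : s.Y.Modules) (hL : PicF.IsInvertible L) (σ : L.presheaf.obj (Opposite.op ⊤))
    (hZ : Cyc.IsZeroSchemeOf i L σ) (k : ℤ) (j : Fin (n + 2)) :
    Bivar.GysinOK₁ s.δ t.δ i L σ (capHom hX hE h0 s k j) (capHom hX hE h0 t (k - 1) j) := by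
  intro α hα
  refine ⟨_, _, capHom_cl hX hE h0 s j α hα, fun v hv γ hγe hγ => ?_⟩
  have ds := data hX hE h0 s
  have dt := data hX hE h0 t
  haveI := ds.proper
  obtain ⟨E', q, hE', hq⟩ := ds.bundle
  have hsq := bcMap_sq hX hE h0 i w
  haveI : IsClosedImmersion (bcMap i w) :=
    MorphismProperty.of_isPullback hsq.flip ‹IsClosedImmersion i›
  have hδi := CycBivLib.deltaCompat_cancel i s.g w s.compat t.compat
  have e1 := CycBivLib.deltaCompat_immersion_eq i hδi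
  have e2 := CycBivLib.deltaCompat_immersion_eq (bcMap i w)
    (CycBivLib.deltaCompat_cancel _ _ hsq.w ds.hδ (Bivar.deltaCompat_comp _ _ _ _ _ dt.hδ hδi))
  let c := cap hX hE h0 s (k := k) ⟨α, hα⟩
  let ζ : Fin (n + 2) → AlgebraicCycle t.Y ℤ := fun a => CycPBLib.gysCyc ds.hX hL i σ hv (c a)
  have hmem : ζ j ∈ Cyc.Zk t.Y t.δ (k - 1 - ((j : ℕ) : ℤ)) := by
    rw [e1, show k - 1 - ((j : ℕ) : ℤ) = k - ((j : ℕ) : ℤ) - 1 by ring]
    exact CycPBLib.gysCyc_mem ds.hX hL i σ hv ((cap_spec hX hE h0 s ⟨α, hα⟩).2.1 j)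
  refine ⟨ζ j, hmem, fun d => rfl, ?_⟩
  rw [capHom_cl hX hE h0 t j _ _]
  refine CycBivLib.cl_eq_cl _ _ ?_
  have hγ' := cap_bc hX hE h0 i w (cap_spec hX hE h0 t ⟨γ, hγ⟩)
  generalize cap hX hE h0 t ⟨γ, hγ⟩ = γt at hγ' ⊢
  dsimp only at hγ'
  rw [e1, e2] at hγ'
  have key := Groth.Agent.S12661.result s.Y s.δ ds.hX (n + 1) E' hE' _ _ _ q hq _ ds.hP ds.hδ L hL σ t.Y i hZ
    _ _ _ hsq v hv k α hα c (cap_spec hX hE h0 s ⟨α, hα⟩) γ hγe _ hγ' ζ (fun _ _ => rfl) j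
  rw [← e1] at key
  exact CycCommLib.ratEquiv_symm dt.hX key

/-- The `j`-th Chern class. -/
def chern (j : Fin (n + 2)) : Bivar.OpCl ((j : ℕ) : ℤ) X δX where
  op s k := capHom hX hE h0 s k j
  push s t h _ w k := push_ok hX hE h0 s t h w k j
  pull s t h _ r hr w k := pull_ok hX hE h0 s t h r hr w k j
  gysin s t i _ w L hL σ hZ k := gysin_ok hX hE h0 s t i w L hL σ hZ k j

/-- The family of all Chern classes. -/
def chernSeq : (j : ℕ) → Bivar.OpCl (j : ℤ) X δX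
  | 0 => Bivar.OpCl.one X δX
  | j + 1 => if hj : j + 1 < n + 2 then chern hX hE h0 ⟨j + 1, hj⟩ else 0

theorem isChernClasses_chernSeq : Bivar.IsChernClasses E (n + 1) (chernSeq hX hE h0) := by
  refine ⟨hE, rfl, fun j hj => ?_, fun s P π O1 q hq δP hδP k α hα ζ hζ0 hζ hζe => ?_⟩
  · obtain ⟨j, rfl⟩ : ∃ m, j = m + 1 := ⟨j - 1, by omega⟩
    exact dif_neg (show ¬ (j + 1 < n + 2) by omega)
  haveI := s.lft
  have hE' := SeesawLib.isFinLocFreeOfRank_pullback s.g hE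
  have ds := data hX hE h0 s
  haveI := ds.proper
  haveI := ProjBunLib.isProper hq hE'
  let D : Data π O1 n s.δ δP := ⟨⟨_, q, hE', hq⟩, ds.hX, CycBivLib.isSetup_of_lft π ds.hX hδP, hδP⟩
  obtain ⟨γ, hγ⟩ := exists_cap D (k := k) hα
  refine cap_congr D hγ hζ0 hζ fun i => ?_
  have hqs := CycPBLib.isProjBundle_bc q0 h0 (IsPullback.of_hasPullback π0 s.g)
  obtain ⟨φ, hφ, ⟨e⟩⟩ := ProjKLib.exists_unique_bundle hqs hq
  have hsq : IsPullback φ.hom π (pullback.snd π0 s.g) (𝟙 s.Y) :=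
    IsPullback.of_horiz_isIso ⟨by rw [hφ, Category.comp_id]⟩
  have hmap : ∀ β : AlgebraicCycle s.Y ℤ, AlgebraicCycle.map (𝟙 s.Y) s.δ s.δ β = β := fun β =>
    AlgebraicCycle.map_id _ β
  have hγ' := cap_iso D.hP (AmpleDevLib.isInvertible_pb _ (AmpleDevLib.isInvertible_pb _ ((CohCmpLib.invertible_iff_rank_one _).2 h0.invertible))) e hγ
  have key := Groth.Agent.S12659.result s.Y s.Y s.δ s.δ ds.hX ds.hX (𝟙 s.Y)
    (CycBivLib.deltaCompat_cancel (𝟙 _) s.g (Category.id_comp _) s.compat s.compat) (n + 1) _ hE' _ _ _ _ hqs _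
    ds.hP ds.hδ _ _ _ hsq _ D.hP D.hδ k α hα γ hγ' (cap hX hE h0 s (k := k) ⟨α, hα⟩)
    (by rw [hmap]; exact cap_spec hX hE h0 s ⟨α, hα⟩) i
  rw [hmap] at key
  refine CycBivLib.ratEquiv_of_cl_eq ds.hX (hζ i) (hγ.2.1 i) ?_
  rw [← hζe i, CycBivLib.cl_eq_cl (hγ.2.1 i) ((cap_spec hX hE h0 s ⟨α, hα⟩).2.1 i) key]
  obtain ⟨i, hi⟩ := i
  cases i with
  | zero =>
    refine (Bivar.chCast_cl _ _ _ α hα).trans ?_
    exact Bivar.cl_congr (cap_spec hX hE h0 s ⟨α, hα⟩).1.symm _ _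
  | succ m =>
    show (chernSeq hX hE h0 (m + 1)).op s k _ = _
    rw [show chernSeq hX hE h0 (m + 1) = chern hX hE h0 ⟨m + 1, hi⟩ from dif_pos hi]
    exact capHom_cl hX hE h0 s ⟨m + 1, hi⟩ α hα

end Groth.Agent.ChernExistLib

namespace Groth.Agent.ChernExistLib

variable {X : Scheme.{u}} {δX : X → ℤ}

/-- Chern classes exist. -/
theorem exists_isChernClasses (hX : Cyc.IsSetup X δX) {E : X.Modules} {r : ℕ}
    (hE : FlatMod.IsFinLocFreeOfRank r E) : ∃ c : (j : ℕ) → Bivar.OpCl (j : ℤ) X δX, Bivar.IsChernClasses E r c := by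
  cases r with
  | zero =>
    refine ⟨fun j => match j with | 0 => Bivar.OpCl.one X δX | _ + 1 => 0, hE, rfl, fun j hj => ?_, ?_⟩
    · obtain ⟨j, rfl⟩ : ∃ m, j = m + 1 := ⟨j - 1, by omega⟩
      rfl
    · intro s P π O1 q hq δP _ k α _ ζ hζ0 hζ _
      haveI := CycPBLib.isEmpty_of_rank_zero (SeesawLib.isFinLocFreeOfRank_pullback s.g hE) hq
      exact ⟨hζ0, hζ, fun _ _ β _ => CycCommLib.ratEquivZero_of_forall_eq_zero fun y => isEmptyElim y⟩
  | succ n =>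
    obtain ⟨P0, π0, O, q0, h0⟩ := ProjBunLib.exists_isProjBundle hE
    exact ⟨_, isChernClasses_chernSeq hX hE h0⟩

end Groth.Agent.ChernExistLib
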