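import Groth.Agent.S12659
import Groth.Agent.S12660
import Groth.Agent.S12661
import Groth.Agent.CycPBLib.Chern
import Groth.Agent.CycPBLib.Comm
import Groth.Agent.CycBivLib.Chow
import Groth.Agent.CycBivLib.Setup
import Groth.Agent.CycBivLib.IsoInv
import Groth.Agent.CycAffLib.Fibre
import Groth.Agent.ProjBunLib.Props
import Groth.Agent.ProjKLib.Chart
import Groth.Agent.SeesawLib.Ranks
import Groth.Prelude.Def_Bivar2

/-! Chern caps in terms of projective bundle data. -/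

set_option autoImplicit false
set_option linter.style.haveILetI false
set_option linter.unusedSectionVars false

universe u

open AlgebraicGeometry CategoryTheory CategoryTheory.Limits Opposite
open KFlatLib (pb)

noncomputable section

namespace Groth.Agent.ChernExistLib

/-- A projective bundle of a module of rank `n + 1` with a dimension function. -/
structure Data {X P : Scheme.{u}} (π : P ⟶ X) (O1 : P.Modules) (n : ℕ) (δ : X → ℤ) (δP : P → ℤ) : Prop where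
  bundle : ∃ (E : X.Modules) (q : pb π E ⟶ O1), FlatMod.IsFinLocFreeOfRank (n + 1) E ∧ KRR.IsProjBundle π E O1 q
  hX : Cyc.IsSetup X δ
  hP : Cyc.IsSetup P δP
  hδ : Cyc.DeltaCompat π δP δ

variable {X P : Scheme.{u}} {π : P ⟶ X} {O1 : P.Modules} {n : ℕ} {δ : X → ℤ} {δP : P → ℤ}

theorem Data.proper (D : Data π O1 n δ δP) : IsProper π := by
  obtain ⟨E, q, hE, hq⟩ := D.bundle
  exact ProjBunLib.isProper hq hE

theorem Data.bun (D : Data π O1 n δ δP) : ∃ B : CycPBLib.Bun π O1 n, B.δX = δ ∧ B.δP = δP := by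
  obtain ⟨E, q, hE, hq⟩ := D.bundle
  exact CycPBLib.exists_bun' hE hq D.hX D.hP D.hδ

theorem exists_cap (D : Data π O1 n δ δP) {k : ℤ} {α : AlgebraicCycle X ℤ} (hα : α ∈ Cyc.Zk X δ k) :
    ∃ γ, Cyc.IsChernCap π δ δP O1 (n + 1) k α γ := by
  haveI := D.proper
  obtain ⟨B, rfl, rfl⟩ := D.bun
  exact B.exists_chern hα

theorem cap_unique (D : Data π O1 n δ δP) {k : ℤ} {α α' : AlgebraicCycle X ℤ} (h : Cyc.RatEquiv δ k α α')
    {γ γ' : Fin (n + 2) → AlgebraicCycle X ℤ} (hγ : Cyc.IsChernCap π δ δP O1 (n + 1) k α γ)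
    (hγ' : Cyc.IsChernCap π δ δP O1 (n + 1) k α' γ') (j : Fin (n + 2)) :
    Cyc.RatEquiv δ (k - ((j : ℕ) : ℤ)) (γ j) (γ' j) := by
  haveI := D.proper
  obtain ⟨B, rfl, rfl⟩ := D.bun
  exact B.chern_unique h hγ hγ' j

theorem cap_zero (D : Data π O1 n δ δP) (k : ℤ) :
    Cyc.IsChernCap π δ δP O1 (n + 1) k 0 fun _ : Fin (n + 2) => 0 := by
  obtain ⟨B, rfl, rfl⟩ := D.bun
  simpa using B.isChernCap_sum (k := k) (∅ : Finset Unit) (fun _ => 1) (fun _ => 0) (fun _ _ => 0) (by simp)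

theorem cap_add (D : Data π O1 n δ δP) {k : ℤ} {α α' : AlgebraicCycle X ℤ}
    {γ γ' : Fin (n + 2) → AlgebraicCycle X ℤ} (hγ : Cyc.IsChernCap π δ δP O1 (n + 1) k α γ)
    (hγ' : Cyc.IsChernCap π δ δP O1 (n + 1) k α' γ') :
    Cyc.IsChernCap π δ δP O1 (n + 1) k (α + α') fun j => γ j + γ' j := by
  obtain ⟨B, rfl, rfl⟩ := D.bun
  simpa using B.isChernCap_sum (k := k) (Finset.univ : Finset Bool) (fun _ => 1) (fun b => cond b α α')
    (fun b => cond b γ γ') fun b _ => by cases b <;> assumption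

/-- Chern caps are insensitive to rational equivalence of their higher members. -/
theorem cap_congr (D : Data π O1 n δ δP) {k : ℤ} {α : AlgebraicCycle X ℤ}
    {γ γ' : Fin (n + 2) → AlgebraicCycle X ℤ} (hγ : Cyc.IsChernCap π δ δP O1 (n + 1) k α γ) (h0 : γ' 0 = α)
    (hm : ∀ j : Fin (n + 2), γ' j ∈ Cyc.Zk X δ (k - ((j : ℕ) : ℤ)))
    (h : ∀ j : Fin (n + 2), Cyc.RatEquiv δ (k - ((j : ℕ) : ℤ)) (γ' j) (γ j)) :
    Cyc.IsChernCap π δ δP O1 (n + 1) k α γ' := by
  haveI := D.proper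
  obtain ⟨B, rfl, rfl⟩ := D.bun
  obtain ⟨-, h2, h3⟩ := (B.isChernCap_iff _ _ _).1 hγ
  refine (B.isChernCap_iff _ _ _).2 ⟨h0, hm, fun t => ?_⟩
  have hd : ∀ i : Fin (n + 2), Cyc.RatEquivZero B.δP (k - 1)
      (((-1 : ℤ) ^ (i : ℕ)) • (B.caps t (B.pull (γ' (Fin.rev i) - γ (Fin.rev i))) (i : ℕ))) := fun i => by
    refine CycPBLib.ratEquivZero_smul B.hP _ ?_
    have hmem := CycPBLib.sub_mem_Zk (hm (Fin.rev i)) (h2 (Fin.rev i))
    have := B.caps_ratEquivZero (B.pull_mem hmem) t (B.pull_ratEquivZero hmem (h (Fin.rev i))) (i : ℕ)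
    rwa [show k - ((Fin.rev i : Fin (n + 2)) : ℕ) + (n : ℤ) - (i : ℕ) = k - 1 by
      have := i.2; rw [Fin.val_rev]; omega] at this
  refine CycCommLib.ratEquivZero_add B.hP
    (CycPBLib.Bun.ratEquivZero_finset_sum B.hP Finset.univ _ fun i _ => hd i) (h3 t) fun z => ?_
  show B.relCyc t γ' z = B.relCyc t (fun j => γ' j - γ j) z + B.relCyc t γ z
  rw [B.relCyc_sub]
  exact (sub_add_cancel (B.relCyc t γ' z) (B.relCyc t γ z)).symm

/-- Chern caps transport along isomorphisms of the tautological module. -/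
theorem cap_iso {O1' : P.Modules} (hP : Cyc.IsSetup P δP) (hinv : PicF.IsInvertible O1') (e : O1' ≅ O1) {r : ℕ}
    {k : ℤ} {α : AlgebraicCycle X ℤ} {γ : Fin (r + 1) → AlgebraicCycle X ℤ}
    (hγ : Cyc.IsChernCap π δ δP O1 r k α γ) : Cyc.IsChernCap π δ δP O1' r k α γ := by
  refine ⟨hγ.1, hγ.2.1, fun t ht β hβ => ?_⟩
  refine hγ.2.2 (fun m ξ => CycBivLib.fibMap e.hom ξ (t m ξ))
    (fun m ξ => CycBivLib.fibMap_ne_zero e (ht m ξ)) β fun y => ?_
  have key : ∀ (i : ℕ) (a : P → ℤ),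
      Cyc.c1PowFun δP O1 (fun m ξ => CycBivLib.fibMap e.hom ξ (t m ξ)) i a = Cyc.c1PowFun δP O1' t i a := by
    intro i a
    induction i with
    | zero => rfl
    | succ i ih =>
      show Cyc.c1CapFun δP O1 (Cyc.c1PowFun δP O1 _ i a) _ = Cyc.c1CapFun δP O1' (Cyc.c1PowFun δP O1' t i a) (t i)
      rw [ih]
      exact CycBivLib.c1CapFun_fibMap hP hinv e _ _
  rw [hβ y]
  exact Finset.sum_congr rfl fun i _ => by rw [key]

end Groth.Agent.ChernExistLib
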